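import Cfsg.Agent.Lib.MathieuNSE.Eleven
import Cfsg.Agent.Lib.Golay.Spor
import Cfsg.Agent.Lib.Golay.M22Index
import Cfsg.Prelude.Def_Sporadic

/-!
Groups with the order and the numbers of elements of equal order of M22 are simple.
-/

set_option autoImplicit false

namespace CfsgLib.MathieuNSE.Eleven

open CfsgLib.Golay

theorem good_m22 : Good 8064 where
  two := by norm_num
  mod := by norm_num
  cop := by norm_num
  pow q e hq hn he hd := by
    have hq' : q = 2 ∨ q = 3 ∨ q = 7 := by
      have h : q ∣ 2 ^ 7 * 3 ^ 2 * 7 := by norm_num; exact hn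
      rcases (Nat.Prime.dvd_mul hq).1 h with h | h
      · rcases (Nat.Prime.dvd_mul hq).1 h with h | h
        · exact Or.inl ((Nat.prime_dvd_prime_iff_eq hq Nat.prime_two).1 (hq.dvd_of_dvd_pow h))
        · exact Or.inr (Or.inl ((Nat.prime_dvd_prime_iff_eq hq Nat.prime_three).1 (hq.dvd_of_dvd_pow h)))
      · exact Or.inr (Or.inr ((Nat.prime_dvd_prime_iff_eq hq (by norm_num)).1 h))
    have he' : e < 8 := lt_of_not_ge fun h => by
      have h1 := (pow_dvd_pow q h).trans hd
      rcases hq' with rfl | rfl | rfl <;> norm_num at h1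
    rcases hq' with rfl | rfl | rfl <;> interval_cases e <;> first | (norm_num; done) | (norm_num at hd; done)

/-- Same order and equal order counts as M22 force a simple group of order 443520. -/
theorem isM22_of_nse {G : Type*} [Group G] [Finite G] (hcard : Nat.card G = Nat.card ↥Cfsg.Spor.M22)
    (hnse : {c : ℕ | 0 < c ∧ ∃ n : ℕ, c = Nat.card {g : G // orderOf g = n}} =
      {c : ℕ | 0 < c ∧ ∃ n : ℕ, c = Nat.card {g : ↥Cfsg.Spor.M22 // orderOf g = n}}) : Cfsg.IsM22 G := by
  rw [card_sporM22] at hcard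
  obtain ⟨e₁⟩ := sporM22_equiv
  let e : ↥Cfsg.Spor.M22 ≃* ↥M22Idx.grp := e₁.trans (MonoidHom.ofInjective M22Idx.twoHom_injective)
  haveI := sporM22_simple
  haveI : IsSimpleGroup M22Idx.grp := e.symm.isSimpleGroup
  have htr : ∀ a b : Fin 22, ∃ g ∈ M22Idx.grp, g a = b := fun a b => by
    haveI := M22Idx.grp_pretransitive (i := 1) (by norm_num)
    haveI : MulAction.IsPretransitive M22Idx.grp (Fin 22) := MulAction.is_one_pretransitive_iff.1 this
    obtain ⟨g, hg⟩ := MulAction.exists_smul_eq M22Idx.grp a b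
    exact ⟨g, g.2, hg⟩
  refine ⟨isSimpleGroup_of_counts (Fintype.card_fin 22) M22Idx.grp M22Idx.card_grp htr good_m22 hcard ?_, hcard⟩
  rw [hnse]
  have hc : ∀ n : ℕ, Nat.card {g : ↥Cfsg.Spor.M22 // orderOf g = n} =
      Nat.card {g : M22Idx.grp // orderOf g = n} := fun n =>
    Nat.card_congr (e.toEquiv.subtypeEquiv fun g => by
      show orderOf g = n ↔ orderOf (e g) = n
      rw [MulEquiv.orderOf_eq])
  simp only [hc]

end CfsgLib.MathieuNSE.Eleven
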