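import Cfsg.Agent.Lib.MathieuNSE.TwentyThree
import Cfsg.Agent.Lib.Golay.Spor
import Cfsg.Agent.Lib.Golay.M24Sub
import Cfsg.Prelude.Def_Sporadic
/-!
Groups with the order and the numbers of elements of equal order of M23 or M24 are simple.
-/

set_option autoImplicit false

namespace CfsgLib.MathieuNSE

theorem four_primes {q a b c d : ℕ} (hq : q.Prime) (h : q ∣ 2 ^ a * 3 ^ b * 5 ^ c * 7 ^ d) :
    q = 2 ∨ q = 3 ∨ q = 5 ∨ q = 7 := by
  rcases (Nat.Prime.dvd_mul hq).1 h with h | h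
  · rcases (Nat.Prime.dvd_mul hq).1 h with h | h
    · rcases (Nat.Prime.dvd_mul hq).1 h with h | h
      · exact Or.inl ((Nat.prime_dvd_prime_iff_eq hq Nat.prime_two).1 (hq.dvd_of_dvd_pow h))
      · exact Or.inr (Or.inl ((Nat.prime_dvd_prime_iff_eq hq Nat.prime_three).1 (hq.dvd_of_dvd_pow h)))
    · exact Or.inr (Or.inr (Or.inl ((Nat.prime_dvd_prime_iff_eq hq Nat.prime_five).1 (hq.dvd_of_dvd_pow h))))
  · exact Or.inr (Or.inr (Or.inr ((Nat.prime_dvd_prime_iff_eq hq (by norm_num)).1 (hq.dvd_of_dvd_pow h))))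

theorem pow_ne_one {q : ℕ} (hq : q = 2 ∨ q = 3 ∨ q = 5 ∨ q = 7) {e : ℕ} (he : 0 < e) (he' : e < 11) :
    q ^ e % 23 ≠ 1 := by
  rcases hq with rfl | rfl | rfl | rfl <;> interval_cases e <;> norm_num

theorem good_m23 : Good 40320 where
  two := by norm_num
  mod := by norm_num
  cop := by norm_num
  pow q e hq hn he hd := by
    have hq' := four_primes hq (show q ∣ 2 ^ 7 * 3 ^ 2 * 5 ^ 1 * 7 ^ 1 by norm_num; exact hn)
    refine pow_ne_one hq' he (lt_of_not_ge fun h => ?_)
    have h1 := (pow_dvd_pow q h).trans hd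
    rcases hq' with rfl | rfl | rfl | rfl <;> norm_num at h1

theorem good_m24 : Good 967680 where
  two := by norm_num
  mod := by norm_num
  cop := by norm_num
  pow q e hq hn he hd := by
    have hq' := four_primes hq (show q ∣ 2 ^ 10 * 3 ^ 3 * 5 ^ 1 * 7 ^ 1 by norm_num; exact hn)
    refine pow_ne_one hq' he (lt_of_not_ge fun h => ?_)
    have h1 := (pow_dvd_pow q h).trans hd
    rcases hq' with rfl | rfl | rfl | rfl <;> norm_num at h1

theorem card_points : Fintype.card Cfsg.GolayPt = 24 := by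
  rw [Fintype.card_congr CfsgLib.Golay.ptEquiv, Fintype.card_fin]

/-- Same order and equal order counts as M23 force a simple group of order 10200960. -/
theorem isM23_of_nse {G : Type*} [Group G] [Finite G] (hcard : Nat.card G = Nat.card ↥Cfsg.Spor.M23)
    (hnse : {c : ℕ | 0 < c ∧ ∃ n : ℕ, c = Nat.card {g : G // orderOf g = n}} =
      {c : ℕ | 0 < c ∧ ∃ n : ℕ, c = Nat.card {g : ↥Cfsg.Spor.M23 // orderOf g = n}}) : Cfsg.IsM23 G := by
  rw [CfsgLib.Golay.card_sporM23] at hcard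
  exact ⟨isSimpleGroup_of_counts card_points _ good_m23 (by rw [CfsgLib.Golay.card_sporM23]) (by rw [hcard]) hnse,
    hcard⟩

/-- Same order and equal order counts as M24 force a simple group of order 244823040. -/
theorem isM24_of_nse {G : Type*} [Group G] [Finite G] (hcard : Nat.card G = Nat.card ↥Cfsg.M24)
    (hnse : {c : ℕ | 0 < c ∧ ∃ n : ℕ, c = Nat.card {g : G // orderOf g = n}} =
      {c : ℕ | 0 < c ∧ ∃ n : ℕ, c = Nat.card {g : ↥Cfsg.M24 // orderOf g = n}}) : Cfsg.IsM24 G := by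
  rw [CfsgLib.Golay.card_M24] at hcard
  exact ⟨isSimpleGroup_of_counts card_points _ good_m24 (by rw [CfsgLib.Golay.card_M24]) (by rw [hcard]) hnse,
    hcard⟩

end CfsgLib.MathieuNSE
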