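import Mathlib
import Cfsg.Agent.Lib.KnownSimple.Order7920.Tools
import Cfsg.Agent.Lib.SmallGroups.Basic
import Cfsg.Agent.Lib.SmallGroups.PrimeDegree
import Cfsg.Agent.Lib.SylowNumbers.TwoPrimeAddOne

/-!
Groups of order `55 n` with `n` Sylow 11-subgroups are simple when no relevant prime power is `1` modulo 11,
and the numbers of elements of equal order in a permutation group of degree 24 of such an order.
-/

set_option autoImplicit false

namespace CfsgLib.MathieuNSE.Eleven

open Subgroup

instance fact11 : Fact (Nat.Prime 11) := ⟨by norm_num⟩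

/-- The arithmetic hypotheses on `n`. -/
structure Good (n : ℕ) : Prop where
  two : 2 ∣ n
  mod : n % 11 = 1
  cop : ¬ 5 ∣ n
  pow : ∀ q e : ℕ, q.Prime → q ∣ n → 0 < e → q ^ e ∣ 55 * n → q ^ e % 11 ≠ 1

variable {G : Type*} [Group G] [Finite G] {n : ℕ}

theorem card_sylow (hn : Good n) (hG : Nat.card G = 55 * n) (P : Sylow 11 G) :
    Nat.card (P : Subgroup G) = 11 := by
  simpa using CfsgLib.SmallGroups.card_sylow_eq (a := 1) (m := 5 * n) (by rw [hG]; ring)
    (by have := hn.mod; omega) P

theorem zpowers_eq_sylow (hn : Good n) (hG : Nat.card G = 55 * n) {x : G} (hx : orderOf x = 11) :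
    ∃ P : Sylow 11 G, (P : Subgroup G) = zpowers x := by
  have h : IsPGroup 11 (zpowers x) := IsPGroup.of_card (n := 1) (by rw [Nat.card_zpowers, hx, pow_one])
  obtain ⟨P, hP⟩ := h.exists_le_sylow
  exact ⟨P, (eq_of_le_of_card_ge hP (by rw [card_sylow hn hG, Nat.card_zpowers, hx])).symm⟩

/-- There are ten elements of order eleven for each Sylow subgroup. -/
theorem card_orderOf (hn : Good n) (hG : Nat.card G = 55 * n) :
    Nat.card {g : G // orderOf g = 11} = Nat.card (Sylow 11 G) * 10 := by
  classical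
  haveI := Fintype.ofFinite G
  haveI := Fintype.ofFinite (Sylow 11 G)
  choose f hf using fun g : {g : G // orderOf g = 11} => zpowers_eq_sylow hn hG g.2
  rw [Nat.card_congr (Equiv.sigmaFiberEquiv f).symm, Nat.card_sigma]
  suffices h : ∀ P : Sylow 11 G, Nat.card {g // f g = P} = 10 by
    rw [Finset.sum_congr rfl fun P _ => h P, Finset.sum_const, Finset.card_univ, smul_eq_mul,
      Nat.card_eq_fintype_card]
  intro P
  have hord : ∀ y : (P : Subgroup G), y ≠ 1 → orderOf (y : G) = 11 := fun y hy => by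
    rw [orderOf_coe]
    have := pow_card_eq_one' (x := y)
    rw [card_sylow hn hG P] at this
    exact orderOf_eq_prime this hy
  have e : {g // f g = P} ≃ {y : (P : Subgroup G) // y ≠ 1} :=
    { toFun := fun g => ⟨⟨(g.1 : G), by
        have h1 := mem_zpowers (g.1 : G)
        rw [← hf g.1, g.2] at h1
        exact h1⟩, fun h => by
          have h2 := g.1.2
          rw [show (g.1 : G) = 1 from congrArg Subtype.val h, orderOf_one] at h2
          norm_num at h2⟩
      invFun := fun y => ⟨⟨(y.1 : G), hord _ y.2⟩, by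
        refine Sylow.ext ((hf _).trans ?_)
        refine eq_of_le_of_card_ge (zpowers_le.2 y.1.2) ?_
        rw [card_sylow hn hG P, Nat.card_zpowers, hord _ y.2]⟩
      left_inv := fun g => rfl
      right_inv := fun y => rfl }
  rw [Nat.card_congr e, Nat.card_eq_fintype_card, Fintype.card_subtype_compl, Fintype.card_subtype_eq,
    ← Nat.card_eq_fintype_card, card_sylow hn hG]

theorem card_normalizer (hn : Good n) (hG : Nat.card G = 55 * n) (hs : Nat.card (Sylow 11 G) = n)
    (P : Sylow 11 G) : Nat.card (normalizer ((P : Subgroup G) : Set G)) = 55 := by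
  have h := CfsgLib.SmallGroups.card_sylow_mul_card_normalizer P
  rw [hs, hG, mul_comm 55 n] at h
  exact Nat.eq_of_mul_eq_mul_left (by have := hn.mod; omega) h

theorem mem_centralizer_zpowers {x y : G} (hxy : Commute x y) : y ∈ centralizer ((zpowers x : Subgroup G) : Set G) := by
  refine mem_centralizer_iff.2 ?_
  rintro _ ⟨k, rfl⟩
  exact hxy.zpow_left k

/-- An element of order eleven normalizes no subgroup of order divisible by a prime divisor of `n`. -/
theorem not_dvd_of_normalized (hn : Good n) (hG : Nat.card G = 55 * n) (hs : Nat.card (Sylow 11 G) = n)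
    {x : G} (hx : orderOf x = 11) (M : Subgroup G) (hM : ∀ u ∈ M, x * u * x⁻¹ ∈ M)
    (h11 : ¬ 11 ∣ Nat.card M) {q : ℕ} (hq : q.Prime) (hqn : q ∣ n) : ¬ q ∣ Nat.card M := by
  intro hqM
  have hxM : x ∈ normalizer (M : Set G) := by
    refine mem_normalizer_iff.2 fun u => ⟨fun h => hM u h, fun h => ?_⟩
    have hinj : Function.Injective (fun v : M => (⟨x * v * x⁻¹, hM v v.2⟩ : M)) := fun a b hab =>
      Subtype.ext (mul_left_cancel (mul_right_cancel (congrArg Subtype.val hab)))
    obtain ⟨v, hv⟩ := (Finite.injective_iff_surjective.1 hinj) ⟨_, h⟩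
    have : (v : G) = u := mul_left_cancel (mul_right_cancel (congrArg Subtype.val hv))
    exact this ▸ v.2
  set H := normalizer (M : Set G)
  haveI : (M.subgroupOf H).Normal := normal_in_normalizer
  have hc : Nat.card (M.subgroupOf H) = Nat.card M := Nat.card_congr (subgroupOfEquivOfLe le_normalizer).toEquiv
  obtain ⟨y, -, hy, hxy⟩ := CfsgLib.KnownSimple.Order7920.exists_commute_of_coprime (M.subgroupOf H)
    (x := ⟨x, hxM⟩) (q := 11) (by norm_num) hq (by rw [orderOf_mk, hx]) (by rw [hc]; exact h11)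
    (by rw [hc]; exact hqM) (55 * n) (by rw [hc, ← hG]; exact M.card_subgroup_dvd_card)
    (fun e he hd => hn.pow q e hq hqn he hd)
  obtain ⟨P, hP⟩ := zpowers_eq_sylow hn hG hx
  have hyN : (y : G) ∈ normalizer ((P : Subgroup G) : Set G) := by
    rw [hP]
    exact centralizer_le_normalizer _ (mem_centralizer_zpowers (congrArg Subtype.val hxy.eq))
  have hd : q ∣ 55 := by
    rw [← card_normalizer hn hG hs P, ← hy, ← orderOf_coe]
    exact orderOf_dvd_natCard _ hyN
  have h55e : (55 : ℕ) = 5 * 11 := by norm_num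
  rw [h55e, hq.dvd_mul, Nat.prime_dvd_prime_iff_eq hq (by norm_num), Nat.prime_dvd_prime_iff_eq hq (by norm_num)] at hd
  rcases hd with rfl | rfl
  · exact hn.cop hqn
  · have := hn.mod
    omega

/-- No overgroup of a Sylow 11-subgroup of even order has a central Sylow normalizer. -/
theorem not_burnside (hn : Good n) (hG : Nat.card G = 55 * n) (hs : Nat.card (Sylow 11 G) = n)
    (H : Subgroup G) (h2 : 2 ∣ Nat.card H) (P : Sylow 11 H) (hP : Nat.card (P : Subgroup H) = 11)
    (hc : normalizer ((P : Subgroup H) : Set H) ≤ centralizer ((P : Subgroup H) : Set H)) : False := by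
  have hcomp := MonoidHom.ker_transferSylow_isComplement' P hc
  set M := (MonoidHom.transferSylow P hc).ker with hM
  have hMc : Nat.card M * 11 = Nat.card H := hP ▸ hcomp.card_mul
  obtain ⟨x, hx⟩ := exists_prime_orderOf_dvd_card' (G := (P : Subgroup H)) 11 (by rw [hP])
  have hxG : orderOf ((x : H) : G) = 11 := by rw [orderOf_coe, orderOf_coe, hx]
  have hcard : Nat.card (M.map H.subtype) = Nat.card M := card_map_of_injective H.subtype_injective
  have h11 : ¬ 11 ∣ Nat.card M := by
    intro h
    have h1 : 11 * 11 ∣ Nat.card H := hMc ▸ Nat.mul_dvd_mul_right h 11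
    have h2' := h1.trans H.card_subgroup_dvd_card
    rw [hG, show 55 * n = 11 * (5 * n) by ring] at h2'
    have := (Nat.Prime.dvd_mul (by norm_num)).1 (Nat.dvd_of_mul_dvd_mul_left (by norm_num) h2')
    have := hn.mod
    omega
  have h2M : 2 ∣ Nat.card M := (Nat.Prime.dvd_mul Nat.prime_two).1 (hMc ▸ h2) |>.resolve_right (by norm_num)
  refine not_dvd_of_normalized hn hG hs hxG (M.map H.subtype) ?_ (by rw [hcard]; exact h11) Nat.prime_two hn.two
    (by rw [hcard]; exact h2M)
  rintro _ ⟨u, hu, rfl⟩
  exact ⟨(x : H) * u * (x : H)⁻¹, (MonoidHom.normal_ker _).conj_mem u hu _, rfl⟩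

theorem dvd_55_cases {c : ℕ} (hc : c ∣ 55) (h : 11 ∣ c) : c = 11 ∨ c = 55 := by
  have key : ∀ c ∈ Nat.divisors 55, 11 ∣ c → c = 11 ∨ c = 55 := by decide
  exact key _ (Nat.mem_divisors.2 ⟨hc, by norm_num⟩) h

theorem centralizer_card (hn : Good n) (hG : Nat.card G = 55 * n) (hs : Nat.card (Sylow 11 G) = n)
    (P : Sylow 11 G) : Nat.card (centralizer ((P : Subgroup G) : Set G)) = 11 := by
  have hN := card_normalizer hn hG hs P
  have hP := card_sylow hn hG P
  haveI : IsCyclic (P : Subgroup G) := isCyclic_of_prime_card hP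
  haveI : IsMulCommutative (P : Subgroup G) := IsCyclic.isMulCommutative
  have hd1 := card_dvd_of_le (centralizer_le_normalizer ((P : Subgroup G) : Set G))
  have hd2 := card_dvd_of_le (le_centralizer (P : Subgroup G))
  rw [hN] at hd1
  rw [hP] at hd2
  refine (dvd_55_cases hd1 hd2).resolve_right fun h => ?_
  have heq : centralizer ((P : Subgroup G) : Set G) = normalizer ((P : Subgroup G) : Set G) :=
    eq_of_le_of_card_ge (centralizer_le_normalizer _) (by omega)
  have hT : Nat.card (⊤ : Subgroup G) = 55 * n := by rw [card_top, hG]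
  refine not_burnside hn hG hs ⊤ (by rw [hT]; exact hn.two.mul_left _) (P.subtype le_top) ?_ ?_
  · rw [Sylow.coe_subtype, Nat.card_congr (subgroupOfEquivOfLe le_top).toEquiv, hP]
  · intro g hg
    rw [Sylow.coe_subtype] at hg ⊢
    have hg' : (g : G) ∈ normalizer ((P : Subgroup G) : Set G) := by
      rw [← subgroupOf_normalizer_eq le_top] at hg
      exact hg
    rw [← heq] at hg'
    exact mem_centralizer_iff.2 fun u hu => Subtype.ext (mem_centralizer_iff.1 hg' u hu)

/-- A group of order `55 n` with `n` Sylow 11-subgroups is simple. -/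
theorem isSimpleGroup (hn : Good n) (hG : Nat.card G = 55 * n) (hs : Nat.card (Sylow 11 G) = n) :
    IsSimpleGroup G := by
  have hn0 : 0 < n := by have := hn.mod; omega
  haveI : Nontrivial G := Finite.one_lt_card_iff_nontrivial.1 (by omega)
  refine ⟨fun N hN => ?_⟩
  by_contra hcon
  push_neg at hcon
  obtain ⟨hbot, htop⟩ := hcon
  haveI := hN
  obtain ⟨x, hx⟩ := exists_prime_orderOf_dvd_card' (G := G) 11 (by rw [hG]; exact Dvd.intro (5 * n) (by ring))
  obtain ⟨P, hP⟩ := zpowers_eq_sylow hn hG hx
  by_cases h11 : 11 ∣ Nat.card N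
  · have hi : ¬ 11 ∣ N.index := fun h => by
      have h1 := Nat.mul_dvd_mul h11 h
      rw [N.card_mul_index, hG, show 55 * n = 11 * (5 * n) by ring] at h1
      have := (Nat.Prime.dvd_mul (by norm_num)).1 (Nat.dvd_of_mul_dvd_mul_left (by norm_num) h1)
      have := hn.mod
      omega
    have hle : (P : Subgroup G) ≤ N := CfsgLib.SylowNumbers.sylow_le_of_normal hi P
    have hNn : Nat.card (Sylow 11 N) = n := by
      rw [CfsgLib.SylowNumbers.card_sylow_of_normal hi, hs]
    have h55 := CfsgLib.SmallGroups.card_sylow_mul_card_normalizer (P.subtype hle)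
    rw [hNn] at h55
    have hPN : Nat.card ((P.subtype hle : Sylow 11 N) : Subgroup N) = 11 := by
      rw [Sylow.coe_subtype, Nat.card_congr (subgroupOfEquivOfLe hle).toEquiv, card_sylow hn hG]
    set NP := normalizer (((P.subtype hle : Sylow 11 N) : Subgroup N) : Set N)
    have hNPd : Nat.card NP ∣ 55 := by
      have := N.card_subgroup_dvd_card
      rw [← h55, hG, mul_comm 55 n] at this
      exact Nat.dvd_of_mul_dvd_mul_left hn0 this
    rcases dvd_55_cases hNPd (hPN ▸ card_dvd_of_le le_normalizer) with h | h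
    · refine not_burnside hn hG hs N (by rw [← h55]; exact hn.two.mul_right _) (P.subtype hle) hPN ?_
      have hE : ((P.subtype hle : Sylow 11 N) : Subgroup N) = NP :=
        eq_of_le_of_card_ge le_normalizer (by rw [hPN, h])
      haveI : IsCyclic ((P.subtype hle : Sylow 11 N) : Subgroup N) := isCyclic_of_prime_card hPN
      haveI : IsMulCommutative ((P.subtype hle : Sylow 11 N) : Subgroup N) := IsCyclic.isMulCommutative
      exact le_trans hE.ge (le_centralizer _)
    · exact htop (eq_top_of_card_eq N (by rw [← h55, h, hG, mul_comm]))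
  · have hnq : Nat.Coprime (Nat.card N) n := Nat.coprime_of_dvd fun q hq h1 h2 =>
      not_dvd_of_normalized hn hG hs hx N (fun u hu => hN.conj_mem u hu x) h11 hq h2 h1
    have h5 : Nat.card N ∣ 5 := by
      have h1 : Nat.card N ∣ 55 := hnq.dvd_of_dvd_mul_right (hG ▸ N.card_subgroup_dvd_card)
      rw [show (55 : ℕ) = 11 * 5 by norm_num] at h1
      exact ((Nat.Prime.coprime_iff_not_dvd (by norm_num)).2 h11).symm.dvd_of_dvd_mul_left h1
    rcases (Nat.dvd_prime (by norm_num)).1 h5 with h | h
    · exact hbot (eq_bot_of_card_eq N h)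
    · obtain ⟨y, hyN, hy1, hxy⟩ := CfsgLib.KnownSimple.Order7920.exists_commute_of_normalizes
        (by norm_num) hx N (fun u hu => hN.conj_mem u hu x) (by rw [h]; norm_num)
      have d1 : orderOf y ∣ 11 :=
        centralizer_card hn hG hs P ▸ orderOf_dvd_natCard _ (hP ▸ mem_centralizer_zpowers hxy)
      have d2 : orderOf y ∣ 5 := h ▸ orderOf_dvd_natCard _ hyN
      exact hy1 (orderOf_eq_one_iff.1 (Nat.eq_one_of_dvd_coprimes (by norm_num) d1 d2))

variable {α : Type*} [Fintype α] [DecidableEq α]

/-- An element of order eleven of a simple transitive group of order 443520 on 22 points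
centralises only its powers. -/
theorem centralizer_perm (hα : Fintype.card α = 22) (M : Subgroup (Equiv.Perm α)) [IsSimpleGroup M]
    (hM : Nat.card M = 443520) (htr : ∀ a b : α, ∃ g ∈ M, g a = b) {x : M} (hx : orderOf x = 11) :
    Nat.card (centralizer ({x} : Set M)) = 11 := by
  classical
  set σ : Equiv.Perm α := (x : Equiv.Perm α) with hσdef
  have hσ : orderOf σ = 11 := by rw [hσdef, orderOf_coe, hx]
  have hfree : ∀ a, σ a ≠ a := by
    intro a ha
    have horb : MulAction.orbit M a = Set.univ :=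
      Set.eq_univ_of_forall fun b => by
        obtain ⟨g, hg, hgb⟩ := htr a b
        exact ⟨⟨g, hg⟩, hgb⟩
    have h := (MulAction.stabilizer M a).index_mul_card
    rw [MulAction.index_stabilizer, horb, Set.ncard_univ, Nat.card_eq_fintype_card (α := α), hα, hM] at h
    have hd : orderOf x ∣ Nat.card (MulAction.stabilizer M a) :=
      orderOf_dvd_natCard _ (show x ∈ MulAction.stabilizer M a from ha)
    rw [hx] at hd
    omega
  have hsupp : σ.support = Finset.univ := Finset.eq_univ_of_forall fun a => Equiv.Perm.mem_support.2 (hfree a)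
  obtain ⟨k, hk⟩ := Equiv.Perm.cycleType_prime_order (σ := σ) (by rw [hσ]; exact fact11.out)
  have hk2 : k + 1 = 2 := by
    have h := σ.sum_cycleType
    rw [hk, hsupp, Finset.card_univ, hα, Multiset.sum_replicate, hσ, smul_eq_mul] at h
    omega
  have hC : Nat.card (centralizer ({σ} : Set (Equiv.Perm α))) = 242 := by
    rw [Equiv.Perm.nat_card_centralizer, hk, hk2, hσ, hα]
    simp [Nat.factorial]
  set C := centralizer ({x} : Set M)
  have hd1 : Nat.card C ∣ 242 := by
    rw [← hC, ← card_map_of_injective (K := C) M.subtype_injective]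
    refine card_dvd_of_le ?_
    rintro _ ⟨g, hg, rfl⟩
    exact mem_centralizer_singleton_iff.2 (congrArg Subtype.val (mem_centralizer_singleton_iff.1 hg))
  have hd2 : Nat.card C ∣ 443520 := hM ▸ C.card_subgroup_dvd_card
  have h11 : 11 ∣ Nat.card C := hx ▸ orderOf_dvd_natCard _ (mem_centralizer_singleton_iff.2 rfl)
  have key : ∀ c ∈ Nat.divisors 242, c ∣ 443520 → 11 ∣ c → c = 11 ∨ c = 22 := by decide +kernel
  refine (key _ (Nat.mem_divisors.2 ⟨hd1, by norm_num⟩) hd2 h11).resolve_right fun h22 => ?_
  obtain ⟨y, hy⟩ := exists_prime_orderOf_dvd_card' (G := C) 2 (by rw [h22]; norm_num)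
  set τ : Equiv.Perm α := ((y : M) : Equiv.Perm α) with hτdef
  have hτ : orderOf τ = 2 := by rw [hτdef, orderOf_coe, orderOf_coe, hy]
  have hcomm : σ * τ = τ * σ :=
    (congrArg Subtype.val (mem_centralizer_singleton_iff.1 y.2)).symm
  have hτ2 : τ * τ = 1 := by rw [← pow_two, ← hτ]; exact pow_orderOf_eq_one τ
  have hstab : ∀ a, τ a = a ↔ τ (σ a) = σ a := fun a => by
    rw [← Equiv.Perm.mul_apply, ← hcomm, Equiv.Perm.mul_apply]
    exact σ.injective.eq_iff.symm
  let e : Equiv.Perm {a // τ a = a} := σ.subtypeEquiv hstab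
  have he : e ^ 11 = 1 := by
    apply Equiv.ext
    intro a
    have key : ∀ j : ℕ, ((e ^ j) a : α) = (σ ^ j) a := by
      intro j
      induction j with
      | zero => simp
      | succ j ih =>
        rw [pow_succ' e j, Equiv.Perm.mul_apply, pow_succ' σ j, Equiv.Perm.mul_apply, ← ih]
        rfl
    refine Subtype.ext ?_
    rw [key, ← hσ, pow_orderOf_eq_one]
    rfl
  have hmod := CfsgLib.KnownSimple.Order7920.perm_fixed_modEq e he
  have h0 : Nat.card {a : {a // τ a = a} // e a = a} = 0 :=
    Nat.card_eq_zero.2 (Or.inl ⟨fun a => hfree a.1.1 (congrArg Subtype.val a.2)⟩)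
  rw [h0] at hmod
  have hf : 11 ∣ Nat.card {a // τ a = a} := Nat.modEq_zero_iff_dvd.1 hmod
  have hsum : τ.support.card + Nat.card {a // τ a = a} = 22 := by
    rw [Nat.card_eq_fintype_card, Fintype.card_subtype, ← hα]
    have : (Finset.univ.filter fun a => τ a = a) = τ.supportᶜ := by
      ext a; simp
    rw [this, Finset.card_add_card_compl]
  obtain ⟨j, hj⟩ := Equiv.Perm.cycleType_prime_order (σ := τ) (by rw [hτ]; exact Nat.prime_two)
  have hs := τ.sum_cycleType
  rw [hj, hτ, Multiset.sum_replicate, smul_eq_mul] at hs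
  have hj11 : j + 1 = 11 := by omega
  let f : M →* ℤˣ := Equiv.Perm.sign.comp M.subtype
  have hsign : Equiv.Perm.sign τ = 1 := by
    rcases f.normal_ker.eq_bot_or_eq_top with h | h
    · exfalso
      have h1 := Nat.card_le_card_of_injective f ((MonoidHom.ker_eq_bot_iff f).1 h)
      rw [hM, Nat.card_eq_fintype_card, Fintype.card_units_int] at h1
      omega
    · exact (MonoidHom.mem_ker (f := f) (x := (y : M))).1 (h ▸ mem_top _)
  rw [Equiv.Perm.sign_of_cycleType, hj, hj11, hτ, Multiset.sum_replicate, Multiset.card_replicate] at hsign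
  norm_num at hsign

theorem centralizer_sylow (hα : Fintype.card α = 22) (M : Subgroup (Equiv.Perm α)) [IsSimpleGroup M]
    (hM : Nat.card M = 443520) (htr : ∀ a b : α, ∃ g ∈ M, g a = b) (hn : Good 8064) (P : Sylow 11 M) :
    Nat.card (centralizer ((P : Subgroup M) : Set M)) = 11 := by
  obtain ⟨x, hx⟩ := exists_prime_orderOf_dvd_card' (G := (P : Subgroup M)) 11
    (by rw [card_sylow hn (by rw [hM]) P])
  have hx' : orderOf (x : M) = 11 := by rw [orderOf_coe, hx]
  have hP : (P : Subgroup M) = zpowers (x : M) :=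
    (eq_of_le_of_card_ge (zpowers_le.2 x.2) (by rw [card_sylow hn (by rw [hM]) P, Nat.card_zpowers, hx'])).symm
  rw [hP, zpowers_eq_closure, centralizer_closure]
  exact centralizer_perm hα M hM htr hx'

/-- The Sylow 11-number of a simple transitive group of order 443520 on 22 points. -/
theorem card_sylow_perm (hα : Fintype.card α = 22) (M : Subgroup (Equiv.Perm α)) [IsSimpleGroup M]
    (hM : Nat.card M = 443520) (htr : ∀ a b : α, ∃ g ∈ M, g a = b) (hn : Good 8064) :
    Nat.card (Sylow 11 M) = 8064 := by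
  obtain ⟨P⟩ : Nonempty (Sylow 11 M) := inferInstance
  have h := CfsgLib.SmallGroups.card_sylow_mul_card_normalizer P
  have h1 := CfsgLib.SmallGroups.card_normalizer_dvd_of_card_prime (p := 11)
    (card_sylow hn (by rw [hM]) P)
  rw [centralizer_sylow hα M hM htr hn P] at h1
  have hle : (P : Subgroup M) ≤ normalizer ((P : Subgroup M) : Set M) := le_normalizer
  have h2 := card_dvd_of_le hle
  rw [card_sylow hn (by rw [hM]) P] at h2
  have hmod := CfsgLib.SmallGroups.mod_eq_one_card_sylow (p := 11) (G := M)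
  rw [hM] at h
  have h110 : Nat.card (normalizer ((P : Subgroup M) : Set M)) ∣ 110 := by
    norm_num at h1
    exact h1
  have key : ∀ c ∈ Nat.divisors 110, 11 ∣ c → c = 11 ∨ c = 22 ∨ c = 55 ∨ c = 110 := by decide
  rcases key _ (Nat.mem_divisors.2 ⟨h110, by norm_num⟩) h2 with h3 | h3 | h3 | h3 <;> rw [h3] at h <;> omega

/-- The numbers of elements of equal order in such a group. -/
theorem count_cases (hα : Fintype.card α = 22) (M : Subgroup (Equiv.Perm α)) [IsSimpleGroup M]
    (hM : Nat.card M = 443520) (htr : ∀ a b : α, ∃ g ∈ M, g a = b) (hn : Good 8064) (k : ℕ) :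
    Nat.card {g : M // orderOf g = k} = 8064 * 10 ∨ Nat.card {g : M // orderOf g = k} = 1 ∨
      11 ∣ Nat.card {g : M // orderOf g = k} := by
  classical
  by_cases hk1 : k = 1
  · subst hk1
    refine Or.inr (Or.inl ?_)
    rw [Nat.card_eq_one_iff_exists]
    exact ⟨⟨1, orderOf_one⟩, fun g => Subtype.ext (orderOf_eq_one_iff.1 g.2)⟩
  by_cases hk : k = 11
  · subst hk
    exact Or.inl (by rw [card_orderOf hn (by rw [hM]), card_sylow_perm hα M hM htr hn])
  refine Or.inr (Or.inr ?_)
  obtain ⟨x, hx⟩ := exists_prime_orderOf_dvd_card' (G := M) 11 (by rw [hM]; norm_num)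
  let e : Equiv.Perm {g : M // orderOf g = k} :=
    (MulAut.conj x).toEquiv.subtypeEquiv fun g => by
      show orderOf g = k ↔ orderOf (MulAut.conj x g) = k
      rw [MulEquiv.orderOf_eq]
  have he : e ^ 11 = 1 := by
    apply Equiv.ext
    intro g
    have key : ∀ j : ℕ, ((e ^ j) g : M) = x ^ j * g * (x ^ j)⁻¹ := by
      intro j
      induction j with
      | zero => simp
      | succ j ih =>
        rw [pow_succ' e j, Equiv.Perm.mul_apply]
        show x * ((e ^ j) g : M) * x⁻¹ = _
        rw [ih, pow_succ' x j]; group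
    refine Subtype.ext ?_
    have hpow := pow_orderOf_eq_one x
    rw [hx] at hpow
    rw [key, hpow]
    simp
  have hfix : Nat.card {g : {g : M // orderOf g = k} // e g = g} = 0 := by
    rw [Nat.card_eq_zero]
    left
    refine ⟨fun ⟨g, hg⟩ => ?_⟩
    have hcomm : Commute x (g : M) := mul_inv_eq_iff_eq_mul.1 (congrArg Subtype.val hg)
    have hd : orderOf (g : M) ∣ 11 := centralizer_perm hα M hM htr hx ▸
      orderOf_dvd_natCard _ (mem_centralizer_singleton_iff.2 hcomm.eq.symm)
    rw [g.2] at hd
    rcases (Nat.dvd_prime (by norm_num)).1 hd with h | h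
    · exact hk1 h
    · exact hk h
  have hmod := CfsgLib.KnownSimple.Order7920.perm_fixed_modEq e he
  rw [hfix] at hmod
  exact Nat.modEq_zero_iff_dvd.1 hmod

/-- Equal order counts with such a group force simplicity. -/
theorem isSimpleGroup_of_counts (hα : Fintype.card α = 22) (M : Subgroup (Equiv.Perm α)) [IsSimpleGroup M]
    (hM : Nat.card M = 443520) (htr : ∀ a b : α, ∃ g ∈ M, g a = b) (hn : Good 8064)
    (hG : Nat.card G = 443520)
    (h : {c : ℕ | 0 < c ∧ ∃ k : ℕ, c = Nat.card {g : G // orderOf g = k}} =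
      {c : ℕ | 0 < c ∧ ∃ k : ℕ, c = Nat.card {g : M // orderOf g = k}}) : IsSimpleGroup G := by
  refine isSimpleGroup hn (by rw [hG]) ?_
  have h1 : Nat.card (Sylow 11 G) * 10 ∈
      {c : ℕ | 0 < c ∧ ∃ k : ℕ, c = Nat.card {g : M // orderOf g = k}} := by
    rw [← h]
    exact ⟨Nat.mul_pos Nat.card_pos (by norm_num), 11, (card_orderOf hn (by rw [hG])).symm⟩
  obtain ⟨-, k, hk⟩ := h1
  have hmod := CfsgLib.SmallGroups.mod_eq_one_card_sylow (p := 11) (G := G)
  rcases count_cases hα M hM htr hn k with e | e | e <;> omega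

end CfsgLib.MathieuNSE.Eleven
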